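import Mathlib
import Groth.Agent.H05EGA4.Points
import Groth.Agent.H17.FieldFiniteType
import Groth.Agent.H17.Dim

/-! Goldman domains, Jacobson rings and isolated points (EGA IV 10.4-10.5). -/

universe u

set_option linter.style.haveILetI false

open TopologicalSpace Topology AlgebraicGeometry

namespace Groth.Agent.H06Jacobson

theorem finite_of_closed_of_forall_isClosed {X : Type*} [TopologicalSpace X] [QuasiSober X]
    [T0Space X] [NoetherianSpace X] {F : Set X} (hF : IsClosed F)
    (h : ∀ y ∈ F, IsClosed ({y} : Set X)) : F.Finite := by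
  obtain ⟨S, hS, hS1, hS2, hFS⟩ := NoetherianSpace.exists_finite_set_isClosed_irreducible hF
  subst hFS
  refine hS.sUnion fun T hT => ?_
  obtain ⟨η, hη⟩ := QuasiSober.sober (hS2 T hT) (hS1 T hT)
  have h1 := (h η ⟨T, hT, hη.mem⟩).closure_eq
  rw [hη.def] at h1
  exact h1 ▸ Set.finite_singleton η

theorem finite_closure_of_isLocallyClosed_singleton (X : Scheme.{u}) [IsNoetherian X] {x : X}
    (hx : IsLocallyClosed ({x} : Set X)) : (closure ({x} : Set X)).Finite := by
  obtain ⟨U, C, hU, hC, e⟩ := hx
  have hxUC : x ∈ U ∧ x ∈ C := Set.ext_iff.mp e x |>.mp rfl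
  have hF : (closure {x} \ U).Finite := by
    refine finite_of_closed_of_forall_isClosed (isClosed_closure.sdiff hU) fun y hy => ?_
    refine H05EGA4.isClosed_of_specializes_of_locallyClosed X ⟨U, C, hU, hC, e⟩
      (specializes_iff_mem_closure.mpr hy.1) ?_
    rintro rfl
    exact hy.2 hxUC.1
  refine (hF.union (Set.finite_singleton x)).subset fun y hy => ?_
  by_cases hyU : y ∈ U
  · refine Or.inr ?_
    rw [e]
    exact ⟨hyU, closure_minimal (Set.singleton_subset_iff.mpr hxUC.2) hC hy⟩
  · exact Or.inl ⟨hy, hyU⟩

theorem exists_mem_finite_closure (X : Scheme.{u}) [IsNoetherian X] (Z : Set X)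
    (hZ : IsLocallyClosed Z) (hne : Z.Nonempty) :
    ∃ x ∈ Z, (closure ({x} : Set X)).Finite := by
  obtain ⟨U, C, hU, hC, rfl⟩ := hZ
  obtain ⟨x, hx, hlc⟩ := H05EGA4.exists_singleton_locallyClosed_of_inter X hU hC hne
  exact ⟨x, hx, finite_closure_of_isLocallyClosed_singleton X hlc⟩

theorem isOpen_genericPoint_of_finite (X : Type*) [TopologicalSpace X] [QuasiSober X] [T0Space X]
    [IrreducibleSpace X] [Finite X] : IsOpen ({genericPoint X} : Set X) := by
  have : ({genericPoint X} : Set X) = (⋃ y ∈ {y : X | y ≠ genericPoint X}, closure {y})ᶜ := by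
    ext z
    simp only [Set.mem_singleton_iff, Set.mem_compl_iff, Set.mem_iUnion, Set.mem_ofPred_eq,
      exists_prop, not_exists, not_and]
    constructor
    · rintro rfl y hy hmem
      exact hy ((specializes_iff_mem_closure.mpr hmem).antisymm (genericPoint_specializes y)).eq
    · intro h
      by_contra hz
      exact h z hz (subset_closure rfl)
  rw [this]
  exact ((Set.toFinite _).isClosed_biUnion fun _ _ => isClosed_closure).isOpen_compl

attribute [local instance] specializationOrder

theorem isOpen_genericPoint_tfae (X : Scheme.{u}) [IsNoetherian X] [IrreducibleSpace X] :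
    [IsOpen ({genericPoint X} : Set X), Finite X,
      topologicalKrullDim X ≤ 1 ∧ {x : X | IsClosed ({x} : Set X)}.Finite].TFAE := by
  tfae_have 1 → 2 := fun h => by
    have := finite_closure_of_isLocallyClosed_singleton X h.isLocallyClosed
    rw [genericPoint_closure] at this
    exact Set.finite_univ_iff.mp this
  tfae_have 2 → 1 := fun h => isOpen_genericPoint_of_finite X
  tfae_have 2 → 3 := fun h => by
    refine ⟨?_, Set.toFinite _⟩
    rw [H17.topologicalKrullDim_eq_krullDim_specialization]
    refine iSup_le fun p => ?_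
    by_contra hlt
    simp only [not_le] at hlt
    have hl : 2 ≤ p.length := by
      by_contra hl
      have h0 : (p.length : ℕ∞) ≤ ((1 : ℕ) : ℕ∞) := ENat.natCast_le_natCast.mpr (by omega : p.length ≤ 1)
      exact absurd hlt (not_lt.mpr (WithBot.coe_le_coe.mpr h0))
    have h01 : p ⟨0, by omega⟩ < p ⟨1, by omega⟩ := p.strictMono (by simp [Fin.lt_def])
    have h12 : p ⟨1, by omega⟩ < p ⟨2, by omega⟩ := p.strictMono (by simp [Fin.lt_def])
    have hopen := isOpen_genericPoint_of_finite X
    have hne : p ⟨1, by omega⟩ ≠ genericPoint X := fun e => by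
      have h1 : p ⟨2, by omega⟩ ⤳ p ⟨1, by omega⟩ := h12.le
      exact h12.ne ((e ▸ genericPoint_specializes (p ⟨2, by omega⟩) :
        p ⟨1, by omega⟩ ⤳ p ⟨2, by omega⟩).antisymm h1).eq
    have hcl := H05EGA4.isClosed_of_specializes_of_locallyClosed X hopen.isLocallyClosed
      (genericPoint_specializes (p ⟨1, by omega⟩)) hne
    have h3 : p ⟨1, by omega⟩ ⤳ p ⟨0, by omega⟩ := h01.le
    exact h01.ne (h3.mem_closed hcl rfl)
  tfae_have 3 → 2 := fun ⟨hdim, hfin⟩ => by
    rw [H17.topologicalKrullDim_eq_krullDim_specialization] at hdim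
    refine Set.finite_univ_iff.mp ((hfin.union (Set.finite_singleton (genericPoint X))).subset ?_)
    intro x _
    by_cases hxg : x = genericPoint X
    · exact Or.inr hxg
    · refine Or.inl ?_
      rw [Set.mem_ofPred_eq, ← closure_subset_iff_isClosed]
      intro y hy
      by_contra hyx
      have h1 : y < x := lt_of_le_of_ne (specializes_iff_mem_closure.mpr hy) hyx
      have h2 : x < genericPoint X := lt_of_le_of_ne (genericPoint_specializes x) hxg
      let p₀ : LTSeries X := (RelSeries.singleton _ y).snoc x h1
      have hlast : p₀.last = x := RelSeries.last_snoc _ _ _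
      let p : LTSeries X := RelSeries.snoc p₀ (genericPoint X) (hlast ▸ h2 : p₀.last < genericPoint X)
      have h5 := (Order.LTSeries.length_le_krullDim p).trans hdim
      have h6 : p.length = 2 := rfl
      rw [h6] at h5
      exact absurd h5 (by decide)
  tfae_finish

theorem isField_away_iff {B : Type*} [CommRing B] [IsDomain B] {f : B} (hf : f ≠ 0) :
    IsField (Localization.Away f) ↔ ∀ P : Ideal B, P.IsPrime → P ≠ ⊥ → f ∈ P := by
  haveI : IsDomain (Localization.Away f) :=
    IsLocalization.isDomain_localization (Submonoid.powers_le.mpr (mem_nonZeroDivisors_of_ne_zero hf))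
  constructor
  · intro hF P hP hP0
    by_contra hfP
    have hdisj : Disjoint (Submonoid.powers f : Set B) P := Set.disjoint_left.mpr (by
      rintro _ ⟨n, rfl⟩ hn
      exact hfP (hP.mem_of_pow_mem n hn))
    haveI := IsLocalization.isPrime_of_isPrime_disjoint (Submonoid.powers f) (Localization.Away f) P hP hdisj
    letI := hF.toField
    have h1 := (Ideal.eq_bot_or_top (P.map (algebraMap B (Localization.Away f)))).resolve_right
      (Ideal.IsPrime.ne_top ‹_›)
    apply hP0
    rw [← IsLocalization.under_map_of_isPrime_disjoint (Submonoid.powers f) (Localization.Away f) hP hdisj,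
      h1, Ideal.under, ← RingHom.ker_eq_comap_bot, RingHom.ker_eq_bot_iff_eq_zero]
    intro x hx
    exact (map_eq_zero_iff _ (IsLocalization.injective (Localization.Away f)
      (Submonoid.powers_le.mpr (mem_nonZeroDivisors_of_ne_zero hf)))).mp hx
  · intro h
    have hbot : ∀ m : Ideal (Localization.Away f), m.IsMaximal → m = ⊥ := fun m hm => by
      have hd := (IsLocalization.isPrime_iff_isPrime_disjoint (Submonoid.powers f)
        (Localization.Away f) m).mp hm.isPrime
      have hc : m.under B = ⊥ := by
        by_contra hne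
        exact Set.disjoint_left.mp hd.2 ⟨1, pow_one f⟩ (h _ hd.1 hne)
      rw [← IsLocalization.map_under (Submonoid.powers f) (Localization.Away f) m, hc, Ideal.map_bot]
    by_contra hnf
    obtain ⟨I, hI1, hI2⟩ := Ring.not_isField_iff_exists_ideal_bot_lt_and_lt_top.mp hnf
    obtain ⟨m, hm, hIm⟩ := Ideal.exists_le_maximal I hI2.ne
    exact hI1.ne' (le_bot_iff.mp (hbot m hm ▸ hIm))

end Groth.Agent.H06Jacobson
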