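import Mathlib
import Groth.Agent.H06Jacobson.Basic

/-! Goldman domains and Jacobson rings. -/

universe u

set_option linter.style.haveILetI false

open TopologicalSpace Topology

namespace Groth.Agent.H06Jacobson

theorem isOpen_bot_of_finiteType {B : Type u} [CommRing B] [IsDomain B] {K : Type u} [Field K]
    [Algebra B K] (hinj : Function.Injective (algebraMap B K)) [Algebra.FiniteType B K] :
    IsOpen ({⟨⊥, Ideal.isPrime_bot⟩} : Set (PrimeSpectrum B)) := by
  obtain ⟨c, hc, h⟩ := H17.exists_notMem_forall_prime_eq_ker (algebraMap B K)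
    (RingHom.finiteType_algebraMap.mpr inferInstance)
  have hker : RingHom.ker (algebraMap B K) = ⊥ := (RingHom.injective_iff_ker_eq_bot _).mp hinj
  have : ({⟨⊥, Ideal.isPrime_bot⟩} : Set (PrimeSpectrum B)) = PrimeSpectrum.basicOpen c := by
    ext Q
    rw [Set.mem_singleton_iff, SetLike.mem_coe, PrimeSpectrum.mem_basicOpen]
    refine ⟨?_, fun hQ => PrimeSpectrum.ext ((h Q.asIdeal Q.2 (hker ▸ bot_le) hQ).trans hker)⟩
    rintro rfl h0
    exact hc (by rw [Ideal.mem_bot.mp h0, map_zero])
  rw [this]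
  exact (PrimeSpectrum.basicOpen c).isOpen

theorem exists_forall_mem_of_isOpen_bot {B : Type u} [CommRing B] [IsDomain B]
    (h : IsOpen ({⟨⊥, Ideal.isPrime_bot⟩} : Set (PrimeSpectrum B))) :
    ∃ f : B, f ≠ 0 ∧ ∀ P : Ideal B, P.IsPrime → P ≠ ⊥ → f ∈ P := by
  obtain ⟨_, ⟨f, rfl⟩, hmem, hsub⟩ :=
    PrimeSpectrum.isTopologicalBasis_basic_opens.exists_subset_of_mem_open (Set.mem_singleton _) h
  refine ⟨f, fun hf => hmem (by simp [hf]), fun P hP hP0 => ?_⟩
  by_contra hfP
  exact hP0 (congrArg PrimeSpectrum.asIdeal (hsub (show (⟨P, hP⟩ : PrimeSpectrum B) ∈ _ from hfP)))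

theorem goldman_tfae (B : Type u) [CommRing B] [IsDomain B] :
    [∃ f : B, f ≠ 0 ∧ IsField (Localization.Away f),
      Algebra.FiniteType B (FractionRing B),
      ∃ (K : Type u) (_ : Field K) (_ : Algebra B K), Function.Injective (algebraMap B K) ∧
        Algebra.FiniteType B K,
      IsOpen ({⟨⊥, Ideal.isPrime_bot⟩} : Set (PrimeSpectrum B))].TFAE := by
  tfae_have 1 → 3 := by
    rintro ⟨f, hf, hF⟩
    exact ⟨Localization.Away f, hF.toField, inferInstance,
      IsLocalization.injective (Localization.Away f)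
        (Submonoid.powers_le.mpr (mem_nonZeroDivisors_of_ne_zero hf)),
      (inferInstance : Algebra.FiniteType B (Localization.Away f))⟩
  tfae_have 3 → 4 := by
    rintro ⟨K, _, _, hinj, _⟩
    exact isOpen_bot_of_finiteType hinj
  tfae_have 4 → 1 := fun h => by
    obtain ⟨f, hf, h'⟩ := exists_forall_mem_of_isOpen_bot h
    exact ⟨f, hf, (isField_away_iff hf).mpr h'⟩
  tfae_have 2 → 3 := fun h =>
    ⟨FractionRing B, inferInstance, inferInstance, IsFractionRing.injective B _, h⟩
  tfae_have 1 → 2 := by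
    rintro ⟨f, hf, hF⟩
    letI := hF.toField
    haveI : IsFractionRing B (Localization.Away f) := by
      refine IsFractionRing.of_field B _ fun z => ?_
      obtain ⟨x, ⟨_, n, rfl⟩, rfl⟩ := IsLocalization.exists_mk'_eq (Submonoid.powers f) z
      refine ⟨x, f ^ n, ?_⟩
      have hne : algebraMap B (Localization.Away f) (f ^ n) ≠ 0 := ?_
      · exact ((eq_div_iff hne).mpr
          (IsLocalization.mk'_spec (Localization.Away f) x (⟨f ^ n, n, rfl⟩ : Submonoid.powers f)))
      · rw [map_ne_zero_iff _ (IsLocalization.injective (Localization.Away f)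
          (Submonoid.powers_le.mpr (mem_nonZeroDivisors_of_ne_zero hf)))]
        exact pow_ne_zero _ hf
    exact Algebra.FiniteType.equiv (inferInstance : Algebra.FiniteType B (Localization.Away f))
      (FractionRing.algEquiv B (Localization.Away f)).symm
  tfae_finish

theorem isJacobsonRing_tfae (A : Type u) [CommRing A] :
    [IsJacobsonRing A,
      ∀ (p : Ideal A) [p.IsPrime], ¬ p.IsMaximal → ∀ f : A ⧸ p, f ≠ 0 → ¬ IsField (Localization.Away f),
      ∀ (K : Type u) [Field K] [Algebra A K], Algebra.FiniteType A K → Module.Finite A K].TFAE := by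
  tfae_have 1 → 3 := fun h K _ _ hK => by
    haveI := hK
    exact finite_of_finite_type_of_isJacobsonRing A K
  tfae_have 3 → 2 := fun h p hp hpm f hf hF => by
    let L := Localization.Away f
    letI := hF.toField
    haveI : Algebra.FiniteType A L := Algebra.FiniteType.trans (S := A ⧸ p) inferInstance inferInstance
    haveI := h L inferInstance
    haveI : Module.Finite (A ⧸ p) L := Module.Finite.of_restrictScalars_finite A (A ⧸ p) L
    exact hpm (Ideal.Quotient.maximal_of_isField p (isField_of_isIntegral_of_isField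
      (IsLocalization.injective L (Submonoid.powers_le.mpr (mem_nonZeroDivisors_of_ne_zero hf)))
      (Field.toIsField L)))
  tfae_have 2 → 1 := fun h => by
    rw [PrimeSpectrum.isJacobsonRing_iff_jacobsonSpace, jacobsonSpace_iff_locallyClosed]
    rintro Z ⟨x, hx⟩ ⟨U, C, hU, hC, rfl⟩
    obtain ⟨_, ⟨g, rfl⟩, hxg, hgU⟩ :=
      PrimeSpectrum.isTopologicalBasis_basic_opens.exists_subset_of_mem_open hx.1 hU
    haveI : CompactSpace (PrimeSpectrum.basicOpen g : Set (PrimeSpectrum A)) :=
      isCompact_iff_compactSpace.mp (PrimeSpectrum.isCompact_basicOpen g)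
    obtain ⟨⟨P, hPg⟩, hPC, hP⟩ :=
      (hC.preimage continuous_subtype_val : IsClosed (Subtype.val ⁻¹' C :
        Set (PrimeSpectrum.basicOpen g : Set (PrimeSpectrum A)))).exists_closed_singleton
        ⟨⟨x, hxg⟩, hx.2⟩
    refine ⟨P, ⟨hgU hPg, hPC⟩, ?_⟩
    rw [mem_closedPoints_iff, PrimeSpectrum.isClosed_singleton_iff_isMaximal]
    by_contra hPm
    have hg0 : Ideal.Quotient.mk P.asIdeal g ≠ 0 := fun h0 =>
      hPg (Ideal.Quotient.eq_zero_iff_mem.mp h0)
    refine h P.asIdeal hPm (Ideal.Quotient.mk P.asIdeal g) hg0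
      ((isField_away_iff hg0).mpr fun Q hQ hQ0 => ?_)
    by_contra hgQ
    let Q' : PrimeSpectrum A := ⟨Q.comap (Ideal.Quotient.mk P.asIdeal), inferInstance⟩
    have hspec : P ⤳ Q' := (PrimeSpectrum.le_iff_specializes _ _).mp
      (Ideal.le_comap_of_map_le (by simp))
    have : (⟨Q', hgQ⟩ : (PrimeSpectrum.basicOpen g : Set (PrimeSpectrum A))) = ⟨P, hPg⟩ := by
      have h1 : (⟨P, hPg⟩ : (PrimeSpectrum.basicOpen g : Set (PrimeSpectrum A))) ⤳ ⟨Q', hgQ⟩ :=
        IsInducing.subtypeVal.specializes_iff.mp hspec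
      exact h1.mem_closed hP rfl
    refine hQ0 ?_
    rw [← Ideal.map_comap_of_surjective _ Ideal.Quotient.mk_surjective Q]
    change Q'.asIdeal.map _ = ⊥
    rw [show Q' = P from congrArg Subtype.val this, Ideal.map_quotient_self]
  tfae_finish

theorem finite_and_krullDim_le_one {B : Type u} [CommRing B] [IsDomain B] [IsNoetherianRing B]
    (h : IsOpen ({⟨⊥, Ideal.isPrime_bot⟩} : Set (PrimeSpectrum B))) :
    Finite (MaximalSpectrum B) ∧ ringKrullDim B ≤ 1 := by
  obtain ⟨f, hf, hf'⟩ := exists_forall_mem_of_isOpen_bot h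
  constructor
  · by_cases hbot : (⊥ : Ideal B).IsMaximal
    · haveI : Subsingleton (MaximalSpectrum B) := ⟨fun a b => MaximalSpectrum.ext
        ((hbot.eq_of_le a.2.ne_top bot_le).symm.trans (hbot.eq_of_le b.2.ne_top bot_le))⟩
      infer_instance
    · have hfin := Ideal.finite_minimalPrimes_of_isNoetherianRing B (Ideal.span {f})
      haveI := hfin.to_subtype
      refine Finite.of_injective (fun m : MaximalSpectrum B =>
        (⟨m.asIdeal, ?_⟩ : (Ideal.span {f}).minimalPrimes)) fun a b hab => ?_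
      · have hm0 : m.asIdeal ≠ ⊥ := fun h0 => hbot (h0 ▸ m.2)
        obtain ⟨s, hs, hsm⟩ := Ideal.exists_minimalPrimes_le (I := Ideal.span {f}) (J := m.asIdeal)
          ((Ideal.span_singleton_le_iff_mem _).mpr (hf' _ m.2.isPrime hm0))
        have hs0 : s ≠ ⊥ := fun e => hf (by
          have := hs.1.2 (Ideal.mem_span_singleton_self f)
          rwa [e, Ideal.mem_bot] at this)
        haveI := hs.1.1
        haveI := m.2.isPrime
        exact H05EGA4.isMaximal_of_mem_nonzero_primes f hf hf' hs0 hsm ▸ hs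
      · exact MaximalSpectrum.ext (Subtype.ext_iff.mp hab)
  · rw [← Nat.cast_one, ← Ring.krullDimLE_iff]
    refine Ring.krullDimLE_one_iff.mpr fun I hI => ?_
    by_cases hI0 : I = ⊥
    · left
      rw [hI0, IsDomain.minimalPrimes_eq_singleton_bot]
      rfl
    · right
      obtain ⟨m, hm, hIm⟩ := Ideal.exists_le_maximal I hI.ne_top
      haveI := hI
      haveI := hm.isPrime
      rwa [H05EGA4.isMaximal_of_mem_nonzero_primes f hf hf' hI0 hIm]

theorem isJacobsonRing_iff_no_semilocal_dim_one (A : Type u) [CommRing A] [IsNoetherianRing A] :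
    IsJacobsonRing A ↔
      ∀ (p : Ideal A) [p.IsPrime],
        ¬ (Finite (MaximalSpectrum (A ⧸ p)) ∧ ringKrullDim (A ⧸ p) = 1) := by
  constructor
  · intro hJ p hp ⟨hfin, hdim⟩
    haveI := hfin
    haveI := Fintype.ofFinite (MaximalSpectrum (A ⧸ p))
    haveI : Ring.KrullDimLE 1 (A ⧸ p) := Ring.krullDimLE_iff.mpr (by rw [hdim]; rfl)
    have hnf : ¬ IsField (A ⧸ p) := fun hF => by
      rw [ringKrullDim_eq_zero_of_isField hF] at hdim
      exact absurd hdim (by decide)
    have hj : Ideal.jacobson (⊥ : Ideal (A ⧸ p)) = ⊥ := by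
      rw [← Ideal.radical_eq_jacobson, (Ideal.isPrime_bot (α := A ⧸ p)).isRadical.radical]
    have hle : (∏ m : MaximalSpectrum (A ⧸ p), m.asIdeal) ≤ Ideal.jacobson ⊥ := by
      refine le_sInf fun J hJ => ?_
      exact (Ideal.prod_le_inf).trans (Finset.inf_le (Finset.mem_univ (⟨J, hJ.2⟩ : MaximalSpectrum (A ⧸ p))))
    rw [hj, le_bot_iff, ← Ideal.zero_eq_bot, Finset.prod_eq_zero_iff] at hle
    obtain ⟨m, -, hm⟩ := hle
    obtain ⟨I, hI1, hI2⟩ := Ring.not_isField_iff_exists_ideal_bot_lt_and_lt_top.mp hnf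
    exact hI2.ne (m.2.out.2 I (by rw [hm]; exact hI1))
  · intro h
    refine ((isJacobsonRing_tfae A).out 1 0 rfl rfl).mp ?_
    intro p hp hpm f hf hF
    have hopen := ((goldman_tfae (A ⧸ p)).out 0 3 rfl rfl).mp ⟨f, hf, hF⟩
    obtain ⟨h1, h2⟩ := finite_and_krullDim_le_one hopen
    refine h p ⟨h1, le_antisymm h2 ?_⟩
    by_contra hlt
    haveI : Ring.KrullDimLE 0 (A ⧸ p) := by
      rw [Ring.krullDimLE_iff]
      rw [not_le] at hlt
      rcases hd : ringKrullDim (A ⧸ p) with _ | d
      · exact bot_le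
      · rw [hd] at hlt
        exact WithBot.coe_le_coe.mpr (Order.lt_one_iff.mp (WithBot.coe_lt_coe.mp hlt)).le
    exact hpm (Ideal.Quotient.maximal_of_isField p Ring.KrullDimLE.isField_of_isDomain)

theorem punctured (A : Type u) [CommRing A] [IsNoetherianRing A] [IsLocalRing A] :
    JacobsonSpace ↥({IsLocalRing.closedPoint A}ᶜ : Set (PrimeSpectrum A)) ∧
      ∀ p : ↥({IsLocalRing.closedPoint A}ᶜ : Set (PrimeSpectrum A)),
        IsClosed ({p} : Set ↥({IsLocalRing.closedPoint A}ᶜ : Set (PrimeSpectrum A))) ↔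
          ringKrullDim (A ⧸ p.1.asIdeal) = 1 := by
  set X := ({IsLocalRing.closedPoint A}ᶜ : Set (PrimeSpectrum A)) with hX
  have hop : IsOpen X := (IsLocalRing.isClosed_singleton_closedPoint A).isOpen_compl
  have key : ∀ p : X, (∀ q : PrimeSpectrum A, p.1 ⤳ q → q ≠ p.1 → q = IsLocalRing.closedPoint A) →
      IsClosed ({p} : Set X) := by
    intro p hp
    rw [← closure_subset_iff_isClosed]
    intro q hq
    have h1 : p.1 ⤳ q.1 :=
      IsInducing.subtypeVal.specializes_iff.mpr (specializes_iff_mem_closure.mpr hq)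
    by_contra hne
    exact q.2 (hp q.1 h1 (fun e => hne (Subtype.ext e)))
  constructor
  · rw [jacobsonSpace_iff_locallyClosed]
    intro Z hne hZ
    have hZ' : IsLocallyClosed (Subtype.val '' Z : Set (PrimeSpectrum A)) :=
      hZ.image IsInducing.subtypeVal (by rw [Subtype.range_coe]; exact hop.isLocallyClosed)
    obtain ⟨U, C, hU, hC, e⟩ := hZ'
    obtain ⟨x, hx⟩ := hne
    obtain ⟨_, ⟨g, rfl⟩, hxg, hgU⟩ :=
      PrimeSpectrum.isTopologicalBasis_basic_opens.exists_subset_of_mem_open
        (Set.ext_iff.mp e x.1 |>.mp ⟨x, hx, rfl⟩).1 hU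
    haveI : CompactSpace (PrimeSpectrum.basicOpen g : Set (PrimeSpectrum A)) :=
      isCompact_iff_compactSpace.mp (PrimeSpectrum.isCompact_basicOpen g)
    obtain ⟨⟨P, hPg⟩, hPC, hP⟩ :=
      (hC.preimage continuous_subtype_val : IsClosed (Subtype.val ⁻¹' C :
        Set (PrimeSpectrum.basicOpen g : Set (PrimeSpectrum A)))).exists_closed_singleton
        ⟨⟨x.1, hxg⟩, (Set.ext_iff.mp e x.1 |>.mp ⟨x, hx, rfl⟩).2⟩
    obtain ⟨P', hP', rfl⟩ : P ∈ Subtype.val '' Z := e ▸ ⟨hgU hPg, hPC⟩
    refine ⟨P', hP', (mem_closedPoints_iff).mpr (key P' fun q hq hne => ?_)⟩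
    have hlc : IsLocallyClosed ({P'.1} : Set (PrimeSpectrum A)) := by
      have := hP.isLocallyClosed.image IsInducing.subtypeVal
        (by rw [Subtype.range_coe]; exact (PrimeSpectrum.basicOpen g).isOpen.isLocallyClosed)
      rwa [Set.image_singleton] at this
    refine H05EGA4.spec_eq_of_locallyClosed hlc hq hne ?_
    exact (PrimeSpectrum.le_iff_specializes _ _).mp (IsLocalRing.le_maximalIdeal q.2.ne_top)
  · intro p
    have hpm : p.1.asIdeal ≠ IsLocalRing.maximalIdeal A := fun e => p.2 (PrimeSpectrum.ext e)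
    have hnf : ¬ IsField (A ⧸ p.1.asIdeal) := fun hF =>
      hpm (IsLocalRing.eq_maximalIdeal (Ideal.Quotient.maximal_of_isField _ hF))
    constructor
    · intro hp
      refine le_antisymm ?_ ?_
      · rw [← Nat.cast_one, ← Ring.krullDimLE_iff]
        refine Ring.krullDimLE_one_iff.mpr fun I hI => ?_
        by_cases hI0 : I = ⊥
        · left
          rw [hI0, IsDomain.minimalPrimes_eq_singleton_bot]
          rfl
        · right
          let Q : PrimeSpectrum A := ⟨I.comap (Ideal.Quotient.mk _), inferInstance⟩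
          have hQ : Q = IsLocalRing.closedPoint A := by
            by_contra hQm
            have h1 : p ⤳ (⟨Q, hQm⟩ : X) := IsInducing.subtypeVal.specializes_iff.mp
              ((PrimeSpectrum.le_iff_specializes _ _).mp (Ideal.le_comap_of_map_le (by simp)))
            have h2 : (⟨Q, hQm⟩ : X) = p := h1.mem_closed hp rfl
            apply hI0
            rw [← Ideal.map_comap_of_surjective _ Ideal.Quotient.mk_surjective I,
              show I.comap (Ideal.Quotient.mk p.1.asIdeal) = p.1.asIdeal from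
                congrArg (fun z => z.1.asIdeal) h2, Ideal.map_quotient_self]
          have hmax : (I.comap (Ideal.Quotient.mk p.1.asIdeal)).IsMaximal := by
            rw [show I.comap (Ideal.Quotient.mk p.1.asIdeal) = IsLocalRing.maximalIdeal A from
              congrArg PrimeSpectrum.asIdeal hQ]
            infer_instance
          rw [← Ideal.map_comap_of_surjective _ Ideal.Quotient.mk_surjective I]
          exact (Ideal.map_eq_top_or_isMaximal_of_surjective _ Ideal.Quotient.mk_surjective
            hmax).resolve_left (by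
              rw [Ideal.map_comap_of_surjective _ Ideal.Quotient.mk_surjective]; exact hI.ne_top)
      · by_contra hlt
        haveI : Ring.KrullDimLE 0 (A ⧸ p.1.asIdeal) := by
          rw [Ring.krullDimLE_iff]
          rw [not_le] at hlt
          rcases hd : ringKrullDim (A ⧸ p.1.asIdeal) with _ | d
          · exact bot_le
          · rw [hd] at hlt
            exact WithBot.coe_le_coe.mpr (Order.lt_one_iff.mp (WithBot.coe_lt_coe.mp hlt)).le
        exact hnf Ring.KrullDimLE.isField_of_isDomain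
    · intro hdim
      refine key p fun q hq hne => ?_
      haveI : Ring.KrullDimLE 1 (A ⧸ p.1.asIdeal) := Ring.krullDimLE_iff.mpr (by rw [hdim]; rfl)
      have hle : p.1.asIdeal ≤ q.asIdeal := (PrimeSpectrum.le_iff_specializes _ _).mpr hq
      haveI : (q.asIdeal.map (Ideal.Quotient.mk p.1.asIdeal)).IsPrime :=
        Ideal.map_isPrime_of_surjective Ideal.Quotient.mk_surjective (by rwa [Ideal.mk_ker])
      rcases Ring.krullDimLE_one_iff.mp inferInstance (q.asIdeal.map (Ideal.Quotient.mk p.1.asIdeal))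
        inferInstance with h | h
      · exfalso
        rw [IsDomain.minimalPrimes_eq_singleton_bot, Set.mem_singleton_iff, Ideal.map_eq_bot_iff_le_ker,
          Ideal.mk_ker] at h
        exact hne (PrimeSpectrum.ext (le_antisymm h hle))
      · apply PrimeSpectrum.ext
        have := Ideal.comap_isMaximal_of_surjective (Ideal.Quotient.mk p.1.asIdeal)
          Ideal.Quotient.mk_surjective (K := q.asIdeal.map (Ideal.Quotient.mk p.1.asIdeal))
        rw [Ideal.comap_map_of_surjective _ Ideal.Quotient.mk_surjective, ← RingHom.ker_eq_comap_bot,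
          Ideal.mk_ker, sup_eq_left.mpr hle] at this
        exact IsLocalRing.eq_maximalIdeal this

end Groth.Agent.H06Jacobson
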